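import Mathlib

/-!
# Associated primes along a surjective ring map, and the localization at the nonzerodivisors
-/

universe u

namespace Groth.Agent.Lib27.AssSurj

section general

variable {S F X : Type*} [CommRing S] [CommRing F] [AddCommGroup X] [Module S X] [Module F X]
  (φ : S →+* F) (hc : ∀ (s : S) (x : X), φ s • x = s • x)

include hc

lemma colon_eq_comap (x : X) :
    Submodule.colon (⊥ : Submodule S X) {x} = Ideal.comap φ (Submodule.colon (⊥ : Submodule F X) {x}) := by
  ext s
  rw [Submodule.mem_colon_singleton, Ideal.mem_comap, Submodule.mem_colon_singleton,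
    Submodule.mem_bot, Submodule.mem_bot, hc]

lemma nzd_eq_preimage :
    (nonZeroSMulDivisors S X : Set S) = φ ⁻¹' (nonZeroSMulDivisors F X : Set F) := by
  ext s
  simp only [SetLike.mem_coe, Set.mem_preimage, mem_nonZeroSMulDivisors_iff, hc]

lemma associatedPrimes_eq_image (hφ : Function.Surjective φ) :
    associatedPrimes S X = Ideal.comap φ '' associatedPrimes F X := by
  ext q
  constructor
  · rintro ⟨hq, x, hx⟩
    rw [colon_eq_comap φ hc, ← Ideal.comap_radical] at hx
    set Q := (Submodule.colon (⊥ : Submodule F X) {x}).radical with hQ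
    have hQmap : Ideal.map φ q = Q := by
      rw [hx, Ideal.map_comap_of_surjective φ hφ]
    have hker : RingHom.ker φ ≤ q := by
      rw [hx]
      exact Ideal.comap_mono bot_le
    have hQprime : Q.IsPrime := by
      rw [← hQmap]
      exact Ideal.map_isPrime_of_surjective hφ hker
    exact ⟨Q, ⟨hQprime, x, rfl⟩, hx.symm⟩
  · rintro ⟨Q, ⟨hQ, x, hx⟩, rfl⟩
    refine ⟨Ideal.comap_isPrime φ Q, x, ?_⟩
    rw [colon_eq_comap φ hc, ← Ideal.comap_radical, hx]

end general

end Groth.Agent.Lib27.AssSurj
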