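import Mathlib

/-!
# Recognising directed colimits in `Under A` (helper27)
-/

set_option autoImplicit false
universe u
open CategoryTheory Limits

namespace Groth.Agent.Lib27.FPColim

variable {A : CommRingCat.{u}}

attribute [local instance] IsFiltered.isConnected

/-- criterion for a cocone in `Under A` over a filtered category to be a colimit -/
theorem isColimit_of_jointly_surjective_of_injective
    {J : Type u} [SmallCategory J] [IsFiltered J]
    (F : J ⥤ Under A) (c : Cocone F)
    (hsurj : ∀ x : c.pt.right, ∃ (j : J) (y : (F.obj j).right), (c.ι.app j).right y = x)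
    (hinj : ∀ (j : J) (y y' : (F.obj j).right), (c.ι.app j).right y = (c.ι.app j).right y' →
      ∃ (k : J) (h : j ⟶ k), (F.map h).right y = (F.map h).right y') :
    Nonempty (IsColimit c) := by
  refine ⟨isColimitOfReflects (Under.forget A) ?_⟩
  haveI : ReflectsColimit (F ⋙ Under.forget A) (forget CommRingCat) :=
    reflectsColimit_of_reflectsIsomorphisms _ _
  refine isColimitOfReflects (forget CommRingCat) ?_
  refine Types.FilteredColimit.isColimitOf' _ _ ?_ ?_
  · intro x
    obtain ⟨j, y, hy⟩ := hsurj x
    exact ⟨j, y, hy.symm⟩
  · intro i x y hxy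
    obtain ⟨k, h, hk⟩ := hinj i x y hxy
    exact ⟨k, h, hk⟩

end Groth.Agent.Lib27.FPColim
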