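import Groth.Agent.Lib27.Misc.FPColim

/-!
# An algebra `B` such that `Hom_A(B, -)` preserves directed colimits is finitely presented
-/

set_option autoImplicit false
universe u
open CategoryTheory Limits

namespace Groth.Agent.Lib27.FPColim

variable {A : CommRingCat.{u}} {B : Type u} [CommRing B] [Algebra A B]

/-- the hypothesis -/
def Pres (A : CommRingCat.{u}) (B : Type u) [CommRing B] [Algebra A B] : Prop :=
  ∀ (J : Type u) [Preorder J] [IsDirected J (· ≤ ·)] [Nonempty J] (F : J ⥤ Under A),
      PreservesColimit F (coyoneda.obj (Opposite.op (CommRingCat.mkUnder A B)))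

/-- the consequence we use: the identity factors through a stage -/
theorem exists_factor (h : Pres A B) {J : Type u} [Preorder J] [IsDirected J (· ≤ ·)] [Nonempty J]
    (F : J ⥤ Under A) (c : Cocone F) (hc : IsColimit c) (e : CommRingCat.mkUnder A B ⟶ c.pt) :
    ∃ (j : J) (g : CommRingCat.mkUnder A B ⟶ F.obj j), g ≫ c.ι.app j = e := by
  haveI := h J F
  have hc' := isColimitOfPreserves (coyoneda.obj (Opposite.op (CommRingCat.mkUnder A B))) hc
  obtain ⟨j, g, hg⟩ := Types.jointly_surjective_of_isColimit hc' e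
  exact ⟨j, g, hg⟩

section FT

/-- the directed system of finitely generated subalgebras -/
abbrev J₁ (A : CommRingCat.{u}) (B : Type u) [CommRing B] [Algebra A B] : Type u :=
  {S : Subalgebra A B // S.FG}

instance : Nonempty (J₁ A B) := ⟨⟨⊥, Subalgebra.fg_bot⟩⟩

instance : IsDirected (J₁ A B) (· ≤ ·) :=
  ⟨fun S T => ⟨⟨S.1 ⊔ T.1, S.2.sup T.2⟩, (le_sup_left : S.1 ≤ S.1 ⊔ T.1),
    (le_sup_right : T.1 ≤ S.1 ⊔ T.1)⟩⟩

noncomputable def F₁ (A : CommRingCat.{u}) (B : Type u) [CommRing B] [Algebra A B] :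
    J₁ A B ⥤ Under A where
  obj S := CommRingCat.mkUnder A S.1
  map {S T} h := (Subalgebra.inclusion (show S.1 ≤ T.1 from h.le)).toUnder
  map_id S := by
    ext x
    rfl
  map_comp {S T U} h h' := by
    ext x
    rfl

noncomputable def c₁ (A : CommRingCat.{u}) (B : Type u) [CommRing B] [Algebra A B] :
    Cocone (F₁ A B) where
  pt := CommRingCat.mkUnder A B
  ι :=
    { app := fun S => S.1.val.toUnder
      naturality := by
        intro S T h
        ext x
        rfl }

theorem isColimit_c₁ : Nonempty (IsColimit (c₁ A B)) := by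
  apply isColimit_of_jointly_surjective_of_injective
  · intro (x : B)
    have hfg : (Algebra.adjoin A ({x} : Set B)).FG := by
      have := Subalgebra.fg_adjoin_finset (R := A) ({x} : Finset B)
      rwa [Finset.coe_singleton] at this
    exact ⟨⟨Algebra.adjoin A {x}, hfg⟩, ⟨x, Algebra.subset_adjoin rfl⟩, rfl⟩
  · intro S y y' hyy'
    exact ⟨S, 𝟙 S, by
      have : y = y' := Subtype.ext hyy'
      rw [this]⟩

theorem finiteType_of_pres (h : Pres A B) : Algebra.FiniteType A B := by
  obtain ⟨hc⟩ := isColimit_c₁ (A := A) (B := B)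
  obtain ⟨S, g, hg⟩ := exists_factor h (F₁ A B) (c₁ A B) hc (𝟙 _)
  have htop : S.1 = ⊤ := by
    rw [eq_top_iff]
    intro b _
    have h1 : (g ≫ (c₁ A B).ι.app S).right b = b := by rw [hg]; rfl
    have h2 : (g ≫ (c₁ A B).ι.app S).right b = (((show S.1 from g.right b) : S.1) : B) := rfl
    rw [h2] at h1
    rw [← h1]
    exact (show S.1 from g.right b).2
  exact ⟨htop ▸ S.2⟩

end FT

end Groth.Agent.Lib27.FPColim
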