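import Groth.Agent.Lib27.Misc.FPColim2

/-!
# Step 2: finite presentation
-/

set_option autoImplicit false
universe u
open CategoryTheory Limits

namespace Groth.Agent.Lib27.FPColim

variable {A : CommRingCat.{u}} {B : Type u} [CommRing B] [Algebra A B]
variable {n : ℕ} (π : MvPolynomial (Fin n) A →ₐ[A] B)

/-- finitely generated ideals contained in the kernel -/
abbrev J₂ : Type u :=
  {I : Ideal (MvPolynomial (Fin n) A) // I.FG ∧ I ≤ RingHom.ker π.toRingHom}

instance : Nonempty (J₂ π) := ⟨⟨⊥, Submodule.fg_bot, bot_le⟩⟩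

instance : IsDirected (J₂ π) (· ≤ ·) :=
  ⟨fun S T => ⟨⟨S.1 ⊔ T.1, Submodule.FG.sup S.2.1 T.2.1, sup_le S.2.2 T.2.2⟩,
    (le_sup_left : S.1 ≤ S.1 ⊔ T.1), (le_sup_right : T.1 ≤ S.1 ⊔ T.1)⟩⟩

noncomputable def F₂ : J₂ π ⥤ Under A where
  obj I := CommRingCat.mkUnder A (MvPolynomial (Fin n) A ⧸ I.1)
  map {S T} h := (Ideal.Quotient.factorₐ A (show S.1 ≤ T.1 from h.le)).toUnder
  map_id S := by
    ext x
    obtain ⟨p, rfl⟩ := Ideal.Quotient.mk_surjective x
    rfl
  map_comp {S T U} h h' := by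
    ext x
    obtain ⟨p, rfl⟩ := Ideal.Quotient.mk_surjective x
    rfl

/-- the map from a stage to `B` -/
noncomputable def toB (I : J₂ π) : (MvPolynomial (Fin n) A ⧸ I.1) →ₐ[A] B :=
  Ideal.Quotient.liftₐ I.1 π (fun a ha => I.2.2 ha)

theorem toB_mk (I : J₂ π) (p : MvPolynomial (Fin n) A) : toB π I (Ideal.Quotient.mk I.1 p) = π p :=
  rfl

noncomputable def c₂ : Cocone (F₂ π) where
  pt := CommRingCat.mkUnder A B
  ι :=
    { app := fun I => (toB π I).toUnder
      naturality := by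
        intro S T h
        ext x
        obtain ⟨p, rfl⟩ := Ideal.Quotient.mk_surjective x
        rfl }

/-- enlarging a stage by finitely many elements of the kernel -/
noncomputable def enlarge (I : J₂ π) (s : Finset (MvPolynomial (Fin n) A))
    (hs : ∀ p ∈ s, π p = 0) : J₂ π :=
  ⟨I.1 ⊔ Ideal.span (s : Set (MvPolynomial (Fin n) A)),
    Submodule.FG.sup I.2.1 ⟨s, rfl⟩,
    sup_le I.2.2 (Ideal.span_le.mpr fun p hp => hs p hp)⟩

theorem le_enlarge (I : J₂ π) (s : Finset (MvPolynomial (Fin n) A))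
    (hs : ∀ p ∈ s, π p = 0) : I ≤ enlarge π I s hs :=
  (le_sup_left : I.1 ≤ I.1 ⊔ _)

theorem mem_enlarge (I : J₂ π) (s : Finset (MvPolynomial (Fin n) A))
    (hs : ∀ p ∈ s, π p = 0) (p) (hp : p ∈ s) : p ∈ (enlarge π I s hs).1 :=
  Ideal.mem_sup_right (Ideal.subset_span hp)

theorem isColimit_c₂ (hπ : Function.Surjective π) : Nonempty (IsColimit (c₂ π)) := by
  apply isColimit_of_jointly_surjective_of_injective
  · intro (x : B)
    obtain ⟨p, rfl⟩ := hπ x
    exact ⟨⟨⊥, Submodule.fg_bot, bot_le⟩, Ideal.Quotient.mk _ p, rfl⟩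
  · intro S y y' hyy'
    obtain ⟨p, rfl⟩ := Ideal.Quotient.mk_surjective (I := S.1) y
    obtain ⟨p', rfl⟩ := Ideal.Quotient.mk_surjective (I := S.1) y'
    have h0 : π (p - p') = 0 := by
      have : π p = π p' := hyy'
      rw [map_sub, this, sub_self]
    refine ⟨enlarge π S {p - p'} (by simpa using h0), homOfLE (le_enlarge π S _ _), ?_⟩
    show Ideal.Quotient.mk _ p = Ideal.Quotient.mk _ p'
    rw [Ideal.Quotient.eq]
    exact mem_enlarge π S _ _ _ (Finset.mem_singleton_self _)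

theorem ker_fg_of_pres (h : Pres A B) (hπ : Function.Surjective π) :
    (RingHom.ker π.toRingHom).FG := by
  classical
  obtain ⟨hc⟩ := isColimit_c₂ π hπ
  obtain ⟨S, g, hg⟩ := exists_factor h (F₂ π) (c₂ π) hc (𝟙 _)
  -- `g` as an algebra map
  let gR : B →+* (MvPolynomial (Fin n) A ⧸ S.1) := g.right.hom
  let gA : B →ₐ[A] (MvPolynomial (Fin n) A ⧸ S.1) :=
    { gR with
      commutes' := fun a => by
        have : ((CommRingCat.mkUnder A B).hom ≫ g.right) a = ((F₂ π).obj S).hom a := by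
          rw [Under.w g]
        exact this }
  have hgA : ∀ b, toB π S (gA b) = b := by
    intro b
    have h1 : (g ≫ (c₂ π).ι.app S).right b = b := by rw [hg]; rfl
    exact h1
  -- lifts of `g (π X_i)`
  have hq : ∀ i : Fin n, ∃ q : MvPolynomial (Fin n) A,
      Ideal.Quotient.mk S.1 q = gA (π (MvPolynomial.X i)) :=
    fun i => Ideal.Quotient.mk_surjective _
  choose q hq using hq
  have hq0 : ∀ i, π (q i - MvPolynomial.X i) = 0 := by
    intro i
    have := hgA (π (MvPolynomial.X i))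
    rw [← hq i, toB_mk] at this
    rw [map_sub, this, sub_self]
  let s : Finset (MvPolynomial (Fin n) A) := Finset.univ.image fun i => q i - MvPolynomial.X i
  have hs : ∀ p ∈ s, π p = 0 := by
    intro p hp
    obtain ⟨i, -, rfl⟩ := Finset.mem_image.mp hp
    exact hq0 i
  let T := enlarge π S s hs
  have hST : S.1 ≤ T.1 := le_enlarge π S s hs
  -- the composite `P/T → B → P/S → P/T` is the identity
  have hcomp : ((Ideal.Quotient.factorₐ A hST).comp gA).comp (toB π T) = AlgHom.id A _ := by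
    apply Ideal.Quotient.algHom_ext
    apply MvPolynomial.algHom_ext
    intro i
    show Ideal.Quotient.factorₐ A hST (gA (π (MvPolynomial.X i))) = Ideal.Quotient.mk T.1 (MvPolynomial.X i)
    rw [← hq i]
    show Ideal.Quotient.mk T.1 (q i) = Ideal.Quotient.mk T.1 (MvPolynomial.X i)
    rw [Ideal.Quotient.eq]
    exact mem_enlarge π S s hs _ (Finset.mem_image.mpr ⟨i, Finset.mem_univ _, rfl⟩)
  have hker : RingHom.ker π.toRingHom = T.1 := by
    apply le_antisymm _ T.2.2
    intro p hp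
    have h1 : toB π T (Ideal.Quotient.mk T.1 p) = 0 := hp
    have h2 := congrArg (fun φ => φ (Ideal.Quotient.mk T.1 p)) hcomp
    simp only [AlgHom.comp_apply, h1, map_zero, AlgHom.id_apply] at h2
    exact Ideal.Quotient.eq_zero_iff_mem.mp h2.symm
  rw [hker]
  exact T.2.1

theorem finitePresentation_of_pres (h : Pres A B) : Algebra.FinitePresentation A B := by
  obtain ⟨n, π, hπ⟩ := Algebra.FiniteType.iff_quotient_mvPolynomial''.mp (finiteType_of_pres h)
  exact ⟨n, π, hπ, ker_fg_of_pres π h hπ⟩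

end Groth.Agent.Lib27.FPColim
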