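import Mathlib.LinearAlgebra.BilinearForm.Basic
import Mathlib.Tactic.Linarith
import Mathlib.Tactic.Positivity
import Mathlib.Tactic.Ring
import Mathlib.Algebra.Order.Ring.Abs

/-!
# An arithmetic lemma on Mukai vectors
-/

set_option autoImplicit false

namespace Groth.Agent.Lib27.Mukai

theorem arith (n r d χ p q e : ℤ) (hn : 0 < n) (hr : 2 ≤ r) (hd : 0 < d) (hχ : χ < 0) (hp : 0 ≤ p)
    (hk : 4 * n * p * q ≤ e ^ 2)
    (ht2 : |d * e - r * q - χ * p| ≤ 2)
    (hexc : ¬ (d = 1 ∧ χ = -1 ∧ e = 1 ∧ 2 * p * q = 0))
    (hr2 : r = 2 → ¬ (p = 0 ∧ e = 0)) :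
    (0 ≤ 2 * n * d * p - r * e ↔ 0 ≤ χ * e - 2 * n * d * q) := by
  have htl : -2 ≤ d * e - r * q - χ * p := (abs_le.mp ht2).1
  have htu : d * e - r * q - χ * p ≤ 2 := (abs_le.mp ht2).2
  have hnd : 0 < n * d := mul_pos hn hd
  rcases hp.eq_or_lt with hp0 | hp1
  · -- p = 0
    have hp0' : p = 0 := hp0.symm
    have hχp : χ * p = 0 := by rw [hp0', mul_zero]
    have hndp : 2 * n * d * p = 0 := by rw [hp0', mul_zero]
    rw [hχp] at htl htu
    rw [hndp]
    constructor
    · intro ha
      have he : e ≤ 0 := by nlinarith
      by_contra hb
      have hb := not_le.mp hb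
      have hχe : 0 ≤ χ * e := mul_nonneg_of_nonpos_of_nonpos hχ.le he
      have hq : 1 ≤ q := by
        by_contra hq
        have : q ≤ 0 := by omega
        have : n * d * q ≤ 0 := mul_nonpos_of_nonneg_of_nonpos hnd.le this
        nlinarith
      have hde : d * e ≤ 0 := mul_nonpos_of_nonneg_of_nonpos hd.le he
      have hrq : r ≤ r * q := by nlinarith
      have hrq2 : r * q = 2 := by nlinarith
      have hde0 : d * e = 0 := by nlinarith
      have he0 : e = 0 := by
        rcases mul_eq_zero.mp hde0 with h | h
        · omega
        · exact h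
      have hr2' : r = 2 := by nlinarith
      exact hr2 hr2' ⟨hp0', he0⟩
    · intro hb
      by_contra ha
      have ha := not_le.mp ha
      have he : 1 ≤ e := by
        by_contra he
        have : e ≤ 0 := by omega
        nlinarith
      have hχe : χ * e ≤ -1 := by nlinarith
      have hq : q ≤ -1 := by
        by_contra hq
        have : 0 ≤ q := by omega
        have : 0 ≤ n * d * q := mul_nonneg hnd.le this
        nlinarith
      have h1 : 1 ≤ d * e := by nlinarith
      have h2 : 2 ≤ r * (-q) := by nlinarith
      nlinarith
  · -- p ≥ 1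
    have hp1' : 1 ≤ p := hp1
    have hXp : 1 ≤ -χ * p := by nlinarith
    constructor
    · intro ha
      by_contra hb
      have hb := not_le.mp hb
      rcases le_or_gt e 0 with he | he
      · -- e ≤ 0
        have hχe : 0 ≤ χ * e := mul_nonneg_of_nonpos_of_nonpos hχ.le he
        have hq : 1 ≤ q := by
          by_contra hq
          have : q ≤ 0 := by omega
          have : n * d * q ≤ 0 := mul_nonpos_of_nonneg_of_nonpos hnd.le this
          nlinarith
        have hnpq : 1 ≤ n * p * q := by
          have : 1 ≤ n * p := by nlinarith
          nlinarith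
        have he' : e ≤ -1 := by
          by_contra he'
          have he0 : e = 0 := by omega
          rw [he0] at hk
          nlinarith
        -- d * (-e) ≥ 2 * p * (-χ) + 1
        have h1 : (-e) * (2 * p * (-χ)) < (-e) * (d * (-e)) := by
          have hb' : χ * e < 2 * n * d * q := by linarith
          have h2 : 2 * p * (χ * e) < 2 * p * (2 * n * d * q) :=
            mul_lt_mul_of_pos_left hb' (by omega)
          have h3 : d * (4 * n * p * q) ≤ d * e ^ 2 := mul_le_mul_of_nonneg_left hk hd.le
          nlinarith
        have h4 : 2 * p * (-χ) < d * (-e) := lt_of_mul_lt_mul_left h1 (by omega)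
        have h5 : 2 ≤ r * q := by nlinarith
        nlinarith
      · -- e ≥ 1
        have he' : 1 ≤ e := he
        rcases le_or_gt q (-1) with hq | hq
        · have h1 : 1 ≤ d * e := by nlinarith
          have h2 : 2 ≤ r * (-q) := by nlinarith
          nlinarith
        · have hq0 : 0 ≤ q := by omega
          -- 2 q r ≤ d e
          have h1 : (2 * n * p) * (2 * q * r) ≤ (2 * n * p) * (d * e) := by
            have h2 : r * (4 * n * p * q) ≤ r * e ^ 2 := mul_le_mul_of_nonneg_left hk (by omega)
            have h3 : e * (r * e) ≤ e * (2 * n * d * p) := by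
              apply mul_le_mul_of_nonneg_left _ (by omega)
              linarith
            nlinarith
          have hnp : 0 < 2 * n * p := by positivity
          have h4 : 2 * q * r ≤ d * e := le_of_mul_le_mul_left h1 hnp
          have hde : 1 ≤ d * e := by nlinarith
          -- 2t ≥ de + 2Xp ≥ 3
          have h5 : 2 * (-χ * p) ≤ 3 := by linarith
          have hXp2 : -χ * p = 1 := by omega
          have hX1 : 1 ≤ -χ := by omega
          have hple : p ≤ -χ * p := by nlinarith
          have hp1'' : p = 1 := by omega
          have hχ1 : χ = -1 := by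
            rw [hp1''] at hXp2
            omega
          have hde2 : d * e ≤ 2 := by linarith
          have hrq' : 2 * q * r ≤ 2 := by linarith
          have hq00 : q = 0 := by
            by_contra hq00
            have hq1 : 1 ≤ q := by omega
            have : 2 ≤ q * r := by nlinarith
            linarith
          have hde1 : d * e = 1 := by
            rw [hq00] at htu htl
            have : χ * p = -1 := by linarith
            rw [this] at htu
            omega
          have hd1 : d = 1 := by
            have : d ≤ d * e := by nlinarith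
            omega
          have he1 : e = 1 := by rw [hd1] at hde1; linarith
          exact hexc ⟨hd1, hχ1, he1, by rw [hq00]; ring⟩
    · intro hb
      by_contra ha
      have ha := not_le.mp ha
      have he : 1 ≤ e := by
        by_contra he
        have he0 : e ≤ 0 := by omega
        have h0 : 0 ≤ n * d * p := by positivity
        have hre : r * e ≤ 0 := mul_nonpos_of_nonneg_of_nonpos (by omega) he0
        linarith
      have hχe : χ * e ≤ -1 := by
        have : χ * e ≤ χ * 1 := mul_le_mul_of_nonpos_left he hχ.le
        linarith
      have hq : q ≤ -1 := by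
        by_contra hq
        have hq0 : 0 ≤ q := by omega
        have : 0 ≤ n * d * q := mul_nonneg hnd.le hq0
        linarith
      have h1 : 1 ≤ d * e := one_le_mul_of_one_le_of_one_le hd he
      have h2 : r * 1 ≤ r * (-q) := mul_le_mul_of_nonneg_left (by omega) (by omega)
      linarith

theorem hodge_consequence {N : Type*} [AddCommGroup N] (B : LinearMap.BilinForm ℤ N)
    (hB : ∀ x y : N, B x y = B y x)
    (H : N) (n : ℤ) (hn : 0 < n) (hH : B H H = 2 * n) (hodge : ∀ x : N, B x H = 0 → B x x ≤ 0)
    (p q : ℤ) (η : N) (hiso : B η η = 2 * p * q) :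
    4 * n * p * q ≤ (B H η) ^ 2 := by
  set e := B H η with he
  have heH : B η H = e := hB η H
  have h0 : B ((2 * n) • η - e • H) H = 0 := by
    simp only [map_sub, map_smul, LinearMap.sub_apply, LinearMap.smul_apply, smul_eq_mul, heH, hH]
    ring
  have h1 := hodge _ h0
  have h2 : B ((2 * n) • η - e • H) ((2 * n) • η - e • H) = 2 * n * (4 * n * p * q - e ^ 2) := by
    simp only [map_sub, map_smul, LinearMap.sub_apply, LinearMap.smul_apply, smul_eq_mul, heH, hH,
      hiso, ← he]
    ring
  rw [h2] at h1
  have h3 : 4 * n * p * q - e ^ 2 ≤ 0 := by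
    by_contra h
    have h4 : 0 < 4 * n * p * q - e ^ 2 := not_le.mp h
    have : 0 < 2 * n * (4 * n * p * q - e ^ 2) := by positivity
    linarith
  linarith

end Groth.Agent.Lib27.Mukai
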