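import Mathlib
import Groth.Agent.Lib27.Misc.AssSurj

/-!
# The localization at the nonzerodivisors of a module with finitely many associated primes
-/

universe u

namespace Groth.Agent.Lib27.NzdLoc

variable {S : Type u} [CommRing S] {X : Type*} [AddCommGroup X] [Module S X]

/-- Elements of an associated prime are zero divisors. -/
lemma not_mem_nzd_of_mem_ass {q : Ideal S} (hq : q ∈ associatedPrimes S X) {s : S} (hs : s ∈ q) :
    s ∉ nonZeroSMulDivisors S X := by
  obtain ⟨hprime, x, hx⟩ := hq
  intro hnzd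
  rw [hx] at hs
  obtain ⟨n, hn⟩ := Ideal.mem_radical_iff.1 hs
  rw [Submodule.mem_colon_singleton, Submodule.mem_bot] at hn
  have hpow : s ^ n ∈ nonZeroSMulDivisors S X := pow_mem hnzd n
  have hx0 : x = 0 := (mem_nonZeroSMulDivisors_iff.1 hpow) x hn
  apply hprime.ne_top
  rw [hx, hx0, Ideal.radical_eq_top, eq_top_iff]
  intro a _
  rw [Submodule.mem_colon_singleton, smul_zero]
  exact zero_mem _

variable (hfin : (associatedPrimes S X).Finite)
  (hzd : ∀ s : S, s ∉ nonZeroSMulDivisors S X → ∃ q ∈ associatedPrimes S X, s ∈ q)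

include hfin hzd

theorem disjoint_iff (q : Ideal S) [hq : q.IsPrime] :
    Disjoint (q : Set S) (nonZeroSMulDivisors S X : Set S) ↔
      ∃ q' ∈ associatedPrimes S X, q ≤ q' := by
  classical
  constructor
  · intro hdisj
    have hsub : (q : Set S) ⊆ ⋃ i ∈ (hfin.toFinset : Set (Ideal S)), ((id i : Ideal S) : Set S) := by
      intro s hs
      have hs' : s ∉ nonZeroSMulDivisors S X := fun h => Set.disjoint_left.1 hdisj hs h
      obtain ⟨q', hq', hsq'⟩ := hzd s hs'
      simp only [Set.mem_iUnion]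
      exact ⟨q', by simpa using hq', hsq'⟩
    obtain ⟨q', hq', hle⟩ := (Ideal.subset_union_prime (f := (id : Ideal S → Ideal S)) ⊥ ⊥
      (fun i hi _ _ => by
        have : i ∈ associatedPrimes S X := by simpa using hi
        exact this.1)).1 hsub
    exact ⟨q', by simpa using hq', hle⟩
  · rintro ⟨q', hq', hle⟩
    rw [Set.disjoint_left]
    intro s hs
    exact not_mem_nzd_of_mem_ass hq' (hle hs)

variable (L : Type*) [CommRing L] [Algebra S L] [IsLocalization (nonZeroSMulDivisors S X) L]

theorem isMaximal_imp (Q : Ideal L) (hQ : Q.IsMaximal) :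
    Maximal (fun r => r ∈ associatedPrimes S X) (Q.comap (algebraMap S L)) := by
  have hQp : Q.IsPrime := hQ.isPrime
  obtain ⟨hqp, hqd⟩ := (IsLocalization.isPrime_iff_isPrime_disjoint
    (nonZeroSMulDivisors S X) L Q).1 hQp
  set q := Q.comap (algebraMap S L) with hq
  haveI := hqp
  obtain ⟨q', hq', hle⟩ := (disjoint_iff hfin hzd q).1 hqd.symm
  obtain ⟨q'', hle', hmax⟩ := hfin.exists_le_maximal hq'
  have hq''p : q''.IsPrime := hmax.1.1
  have hq''d : Disjoint (nonZeroSMulDivisors S X : Set S) (q'' : Set S) := by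
    haveI := hq''p
    exact ((disjoint_iff hfin hzd q'').2 ⟨q'', hmax.1, le_rfl⟩).symm
  have hQ''p : (Ideal.map (algebraMap S L) q'').IsPrime :=
    IsLocalization.isPrime_of_isPrime_disjoint _ L q'' hq''p hq''d
  have hQle : Q ≤ Ideal.map (algebraMap S L) q'' := by
    rw [← IsLocalization.map_under (nonZeroSMulDivisors S X) L Q]
    exact Ideal.map_mono (hle.trans hle')
  have hQeq : Q = Ideal.map (algebraMap S L) q'' := hQ.eq_of_le hQ''p.ne_top hQle
  have : q = q'' := by
    rw [hq, hQeq]
    exact IsLocalization.under_map_of_isPrime_disjoint _ L hq''p hq''d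
  rw [this]
  exact hmax

theorem isMaximal_iff (Q : Ideal L) :
    Q.IsMaximal ↔ (Q.IsPrime ∧
      Maximal (fun r => r ∈ associatedPrimes S X) (Q.comap (algebraMap S L))) := by
  constructor
  · intro hQ
    exact ⟨hQ.isPrime, isMaximal_imp hfin hzd L Q hQ⟩
  · rintro ⟨hQp, hmax⟩
    obtain ⟨Q₁, hQ₁, hle⟩ := Ideal.exists_le_maximal Q hQp.ne_top
    have h1 := isMaximal_imp hfin hzd L Q₁ hQ₁
    have h2 : Q.comap (algebraMap S L) ≤ Q₁.comap (algebraMap S L) := Ideal.comap_mono hle
    have h3 : Q₁.comap (algebraMap S L) ≤ Q.comap (algebraMap S L) := hmax.2 h1.1 h2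
    have h4 : Q = Q₁ := by
      rw [← IsLocalization.map_under (nonZeroSMulDivisors S X) L Q,
        ← IsLocalization.map_under (nonZeroSMulDivisors S X) L Q₁]
      exact congrArg _ (le_antisymm h2 h3)
    rw [h4]
    exact hQ₁

theorem finite_isMaximal : {Q : Ideal L | Q.IsMaximal}.Finite := by
  apply Set.Finite.subset (hfin.image (Ideal.map (algebraMap S L)))
  intro Q hQ
  refine ⟨Q.comap (algebraMap S L), (isMaximal_imp hfin hzd L Q hQ).1, ?_⟩
  exact IsLocalization.map_under (nonZeroSMulDivisors S X) L Q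

end Groth.Agent.Lib27.NzdLoc
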