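import Mathlib.CategoryTheory.Limits.Shapes.Products
import Mathlib.CategoryTheory.Limits.Types.Products
import Mathlib.CategoryTheory.Limits.Preserves.Shapes.BinaryProducts
import Mathlib.CategoryTheory.Limits.Preserves.Shapes.Terminal
import Mathlib.CategoryTheory.Limits.Constructions.FiniteProductsOfBinaryProducts

/-!
# The discrete-object functor preserves finite products
-/

set_option autoImplicit false

universe w v u

namespace Groth.Agent.Lib27.SigmaConstProd

open CategoryTheory CategoryTheory.Limits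

variable {C : Type u} [Category.{v} C] [HasFiniteProducts C] [HasCoproducts.{w} C]

/-- The reindexing `∐_{X × Y} pt ⟶ ∐_X ∐_Y pt`. -/
noncomputable def e1 (X Y : Type w) :
    (∐ fun _ : X × Y => ⊤_ C) ⟶ ∐ fun _ : X => ∐ fun _ : Y => ⊤_ C :=
  Sigma.desc fun p => Sigma.ι (fun _ : Y => ⊤_ C) p.2 ≫ Sigma.ι (fun _ : X => ∐ fun _ : Y => ⊤_ C) p.1

/-- Its inverse. -/
noncomputable def e1inv (X Y : Type w) :
    (∐ fun _ : X => ∐ fun _ : Y => ⊤_ C) ⟶ ∐ fun _ : X × Y => ⊤_ C :=
  Sigma.desc fun x => Sigma.desc fun y => Sigma.ι (fun _ : X × Y => ⊤_ C) (x, y)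

instance (X Y : Type w) : IsIso (e1 (C := C) X Y) := by
  refine ⟨e1inv X Y, ?_, ?_⟩
  · apply Sigma.hom_ext
    intro p
    simp [e1, e1inv]
  · apply Sigma.hom_ext
    intro x
    apply Sigma.hom_ext
    intro y
    simp [e1, e1inv]

variable (h : ∀ (I : Type w) (U : C), IsIso (Sigma.desc fun i : I =>
      prod.lift (terminal.from U ≫ Sigma.ι (fun _ : I => ⊤_ C) i) (𝟙 U)))

include h in
lemma isIso_lift (X Y : Type w) :
    IsIso (prod.lift ((sigmaConst.{w}.obj (⊤_ C)).map (TypeCat.ofHom (Prod.fst : X × Y → X)))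
      ((sigmaConst.{w}.obj (⊤_ C)).map (TypeCat.ofHom (Prod.snd : X × Y → Y)))) := by
  have hc := h X (∐ fun _ : Y => ⊤_ C)
  have key : prod.lift ((sigmaConst.{w}.obj (⊤_ C)).map (TypeCat.ofHom (Prod.fst : X × Y → X)))
      ((sigmaConst.{w}.obj (⊤_ C)).map (TypeCat.ofHom (Prod.snd : X × Y → Y))) =
      e1 X Y ≫ (Sigma.desc fun i : X =>
        prod.lift (terminal.from (∐ fun _ : Y => ⊤_ C) ≫ Sigma.ι (fun _ : X => ⊤_ C) i)
          (𝟙 (∐ fun _ : Y => ⊤_ C))) := by
    apply Sigma.hom_ext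
    intro p
    apply Limits.prod.hom_ext
    · simp only [sigmaConst_obj_obj, sigmaConst_obj_map, Category.assoc, prod.lift_fst,
        Sigma.ι_comp_map', Category.id_comp, e1, Sigma.ι_desc_assoc, Sigma.ι_desc,
        TypeCat.ofHom_apply]
      rw [← Category.assoc (Sigma.ι (fun _ : Y => ⊤_ C) p.2)]
      have : Sigma.ι (fun _ : Y => ⊤_ C) p.2 ≫ terminal.from (∐ fun _ : Y => ⊤_ C) = 𝟙 _ :=
        Subsingleton.elim _ _
      rw [this, Category.id_comp]
    · simp only [sigmaConst_obj_obj, sigmaConst_obj_map, Category.assoc, prod.lift_snd,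
        Sigma.ι_comp_map', Category.id_comp, e1, Sigma.ι_desc_assoc, Sigma.ι_desc, Category.comp_id,
        TypeCat.ofHom_apply]
  rw [key]
  infer_instance

include h in
lemma preservesPair (X Y : Type w) : PreservesLimit (pair X Y) (sigmaConst.{w}.obj (⊤_ C)) := by
  apply preservesLimit_of_preserves_limit_cone (Types.binaryProductLimit X Y)
  apply (isLimitMapConeBinaryFanEquiv _ _ _).symm _
  have := isIso_lift h X Y
  exact @IsLimit.ofPointIso _ _ _ _ _ _ _
    (limit.isLimit (pair ((sigmaConst.{w}.obj (⊤_ C)).obj X) ((sigmaConst.{w}.obj (⊤_ C)).obj Y)))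
    this

lemma preservesTerminal :
    PreservesLimitsOfShape (Discrete.{0} PEmpty) (sigmaConst.{w}.obj (⊤_ C)) := by
  have : PreservesLimit (Functor.empty.{0} (Type w)) (sigmaConst.{w}.obj (⊤_ C)) :=
    preservesTerminal_of_iso _ (Limits.coproductUniqueIso (fun _ : ⊤_ (Type w) => ⊤_ C))
  exact preservesLimitsOfShape_pempty_of_preservesTerminal _

include h in
theorem preservesFiniteProducts : PreservesFiniteProducts (sigmaConst.{w}.obj (⊤_ C)) := by
  have h1 : PreservesLimitsOfShape (Discrete WalkingPair) (sigmaConst.{w}.obj (⊤_ C)) :=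
    ⟨fun {K} => by
      have := preservesPair h (K.obj ⟨WalkingPair.left⟩) (K.obj ⟨WalkingPair.right⟩)
      exact preservesLimit_of_iso_diagram _ (diagramIsoPair K).symm⟩
  have h2 : PreservesLimitsOfShape (Discrete.{0} PEmpty) (sigmaConst.{w}.obj (⊤_ C)) :=
    preservesTerminal
  exact PreservesFiniteProducts.of_preserves_binary_and_terminal _

end Groth.Agent.Lib27.SigmaConstProd
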