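import Mathlib.RingTheory.AdjoinRoot
import Mathlib.Algebra.Ring.GeomSum
import Mathlib.RingTheory.Ideal.Operations
import Mathlib.Algebra.Polynomial.Div

/-!
# Subalgebras of a truncated polynomial ring stable under `u ↦ u/(1+u)`
-/

set_option autoImplicit false

universe u

namespace Groth.Agent.Lib27.TruncSub

variable {k : Type u} [Field k] [CharZero k] {R : Type u} [CommRing R] [Algebra k R]

section abstract

variable (x : R)

/-- The ideal generated by `x ^ m`. -/
def I (m : ℕ) : Ideal R := Ideal.span {x ^ m}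

lemma I_succ_le (m : ℕ) : I x (m + 1) ≤ I x m := by
  unfold I
  rw [Ideal.span_singleton_le_span_singleton, pow_succ]
  exact Dvd.intro _ rfl

lemma I_anti {a b : ℕ} (h : a ≤ b) : I x b ≤ I x a := by
  induction b, h using Nat.le_induction with
  | base => exact le_rfl
  | succ b _ ih => exact (I_succ_le x b).trans ih

lemma mul_mem_I {a b : ℕ} {y z : R} (hy : y ∈ I x a) (hz : z ∈ I x b) : y * z ∈ I x (a + b) := by
  have h := Ideal.mul_mem_mul hy hz
  unfold I at h ⊢
  rw [Ideal.span_singleton_mul_span_singleton, ← pow_add] at h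
  exact h

lemma pow_mem_I (m : ℕ) : x ^ m ∈ I x m := Ideal.subset_span rfl

lemma pow_mul_mem_I (m : ℕ) (r : R) : x ^ m * r ∈ I x m := Ideal.mul_mem_right _ _ (pow_mem_I x m)

variable {x}

variable (hdec : ∀ r : R, ∃ (c : k) (r' : R), r = algebraMap k R c + x * r')

include hdec in
lemma decomp (m : ℕ) (g : R) (hg : g ∈ I x m) :
    ∃ (c : k) (g' : R), g' ∈ I x (m + 1) ∧ g = c • x ^ m + g' := by
  obtain ⟨r, rfl⟩ := Ideal.mem_span_singleton'.mp hg
  obtain ⟨c, r', rfl⟩ := hdec r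
  refine ⟨c, x ^ (m + 1) * r', pow_mul_mem_I x _ _, ?_⟩
  rw [Algebra.smul_def, pow_succ]
  ring

variable (σ : R →ₐ[k] R) (hσ : σ x * (1 + x) = x)

include hσ in
lemma sigma_x : σ x = x * (1 - σ x) := by
  have : σ x * (1 + x) = x := hσ
  linear_combination this

include hσ in
lemma sigma_x_mem : σ x ∈ I x 1 := by
  rw [sigma_x σ hσ]
  have := pow_mul_mem_I x 1 (1 - σ x)
  rwa [pow_one] at this

include hσ in
lemma w_pow (m : ℕ) : (1 - σ x) ^ m - (1 - (m : R) * x) ∈ I x 2 := by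
  have hv1 : σ x ∈ I x 1 := sigma_x_mem σ hσ
  have hx1 : x ∈ I x 1 := by
    have := pow_mem_I x 1
    rwa [pow_one] at this
  have h3 : x * σ x ∈ I x 2 := by
    have := mul_mem_I x hx1 hv1
    rwa [show 1 + 1 = 2 from rfl] at this
  have hvx : σ x - x ∈ I x 2 := by
    have h1 : σ x - x = -(x * σ x) := by
      have : σ x * (1 + x) = x := hσ
      linear_combination this
    rw [h1]
    exact neg_mem h3
  induction m with
  | zero =>
    rw [pow_zero, Nat.cast_zero, zero_mul, sub_zero, sub_self]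
    exact Ideal.zero_mem _
  | succ m ih =>
    have h2 : (1 - σ x) ^ (m + 1) - (1 - ((m + 1 : ℕ) : R) * x) =
        ((1 - σ x) ^ m - (1 - (m : R) * x)) * (1 - σ x) - (σ x - x) + (m : R) * (x * σ x) := by
      push_cast
      ring
    rw [h2]
    refine Ideal.add_mem _ (Ideal.sub_mem _ (Ideal.mul_mem_right _ _ ih) hvx) ?_
    exact Ideal.mul_mem_left _ _ h3

include hσ in
lemma sigma_pow (m : ℕ) : σ (x ^ m) = x ^ m * (1 - σ x) ^ m := by
  rw [map_pow, ← mul_pow, ← sigma_x σ hσ]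

include hσ in
lemma w_pow_sub_one (m : ℕ) : (1 - σ x) ^ m - 1 ∈ I x 1 := by
  have h1 := I_anti x (show 1 ≤ 2 by norm_num) (w_pow σ hσ m)
  have h2 : (1 - σ x) ^ m - 1 = ((1 - σ x) ^ m - (1 - (m : R) * x)) - x ^ 1 * (m : R) := by ring
  rw [h2]
  exact Ideal.sub_mem _ h1 (pow_mul_mem_I x 1 _)

include hdec hσ in
lemma sigma_sub_mem_one (r : R) : σ r - r ∈ I x 1 := by
  obtain ⟨c, r', rfl⟩ := hdec r
  have h : σ (algebraMap k R c + x * r') - (algebraMap k R c + x * r') =
      x ^ 1 * ((1 - σ x) * σ r' - r') := by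
    rw [map_add, map_mul, AlgHom.commutes]
    nth_rewrite 1 [sigma_x σ hσ]
    ring
  rw [h]
  exact pow_mul_mem_I x 1 _

include hdec hσ in
lemma sigma_sub_mem (m : ℕ) (g : R) (hg : g ∈ I x m) : σ g - g ∈ I x (m + 1) := by
  obtain ⟨r, rfl⟩ := Ideal.mem_span_singleton'.mp hg
  have h : σ (r * x ^ m) - r * x ^ m =
      x ^ m * (((1 - σ x) ^ m - 1) * σ r + (σ r - r)) := by
    rw [map_mul, sigma_pow σ hσ]
    ring
  rw [h]
  exact mul_mem_I x (pow_mem_I x m)
    (Ideal.add_mem _ (Ideal.mul_mem_right _ _ (w_pow_sub_one σ hσ m)) (sigma_sub_mem_one hdec σ hσ r))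

include hσ in
lemma sigma_pow_sub (m : ℕ) : σ (x ^ m) - x ^ m + (m : R) * x ^ (m + 1) ∈ I x (m + 2) := by
  have h : σ (x ^ m) - x ^ m + (m : R) * x ^ (m + 1) =
      x ^ m * ((1 - σ x) ^ m - (1 - (m : R) * x)) := by
    rw [sigma_pow σ hσ]
    ring
  rw [h]
  exact mul_mem_I x (pow_mem_I x m) (w_pow σ hσ m)

include hdec hσ in
/-- The difference operator raises the order by exactly one. -/
lemma sigma_sub_leading (m : ℕ) (g : R) (c : k) (hg : g - c • x ^ m ∈ I x (m + 1)) :
    (σ g - g) - (-(m : k) * c) • x ^ (m + 1) ∈ I x (m + 2) := by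
  have h1 := sigma_sub_mem hdec σ hσ (m + 1) _ hg
  have h2 := sigma_pow_sub σ hσ m
  have h : (σ g - g) - (-(m : k) * c) • x ^ (m + 1) =
      (σ (g - c • x ^ m) - (g - c • x ^ m)) +
        c • (σ (x ^ m) - x ^ m + (m : R) * x ^ (m + 1)) := by
    rw [map_sub, map_smul]
    simp only [Algebra.smul_def, map_mul, map_neg, map_natCast]
    ring
  rw [h]
  refine Ideal.add_mem _ h1 ?_
  rw [Algebra.smul_def]
  exact Ideal.mul_mem_left _ _ h2

end abstract

end Groth.Agent.Lib27.TruncSub
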