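import Groth.Agent.Lib27.Misc.TruncSub

/-!
# Subalgebras of a truncated polynomial ring stable under `u ↦ u/(1+u)`: classification
-/

set_option autoImplicit false

universe u

namespace Groth.Agent.Lib27.TruncSub

variable {k : Type u} [Field k] [CharZero k] {R : Type u} [CommRing R] [Algebra k R]

variable {x : R} (hdec : ∀ r : R, ∃ (c : k) (r' : R), r = algebraMap k R c + x * r')
  (σ : R →ₐ[k] R) (hσ : σ x * (1 + x) = x) (A : Subalgebra k R) (hA : A.map σ ≤ A)

include hA in
lemma sigma_mem {g : R} (hg : g ∈ A) : σ g ∈ A := hA ⟨g, hg, rfl⟩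

include hdec hσ hA in
/-- Downward induction: an element of exact order `m` in `A` forces `(x^m) ⊆ A`. -/
lemma ideal_le_of_leading (N : ℕ) (hN : x ^ (N + 1) = 0) :
    ∀ d m : ℕ, m + d = N + 1 → 1 ≤ m →
      ∀ (g : R) (c : k), g ∈ A → c ≠ 0 → g - c • x ^ m ∈ I x (m + 1) →
        ∀ y ∈ I x m, y ∈ A := by
  intro d
  induction d with
  | zero =>
    intro m hm _ g c _ _ _ y hy
    have hm' : m = N + 1 := by omega
    subst hm'
    unfold I at hy
    rw [hN, Ideal.span_singleton_zero, Ideal.mem_bot] at hy
    rw [hy]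
    exact A.zero_mem
  | succ d ih =>
    intro m hm hm1 g c hg hc hgc y hy
    have h1 := sigma_sub_leading hdec σ hσ m g c hgc
    have h2 : σ g - g ∈ A := A.sub_mem (sigma_mem σ A hA hg) hg
    have hne : -(m : k) * c ≠ 0 := by
      apply mul_ne_zero _ hc
      rw [neg_ne_zero]
      exact_mod_cast (by omega : m ≠ 0)
    have h3 := ih (m + 1) (by omega) (by omega) (σ g - g) (-(m : k) * c) h2 hne h1
    have h4 : c • x ^ m ∈ A := by
      have : c • x ^ m = g - (g - c • x ^ m) := by ring
      rw [this]
      exact A.sub_mem hg (h3 _ hgc)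
    have h5 : x ^ m ∈ A := by
      have : x ^ m = c⁻¹ • (c • x ^ m) := by rw [smul_smul, inv_mul_cancel₀ hc, one_smul]
      rw [this]
      exact A.smul_mem h4 _
    obtain ⟨c', y', hy', rfl⟩ := decomp hdec m y hy
    exact A.add_mem (A.smul_mem h5 _) (h3 _ hy')

include hdec hσ hA in
theorem classify (N : ℕ) (hN : x ^ (N + 1) = 0) :
    ∃ n : ℕ, 1 ≤ n ∧ n ≤ N + 1 ∧
      Subalgebra.toSubmodule A =
        Submodule.span k {1} ⊔ (Ideal.span {x ^ n}).restrictScalars k := by
  classical
  have hex : ∃ m : ℕ, 1 ≤ m ∧ ∀ y ∈ I x m, y ∈ A := by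
    refine ⟨N + 1, by omega, fun y hy => ?_⟩
    unfold I at hy
    rw [hN, Ideal.span_singleton_zero, Ideal.mem_bot] at hy
    rw [hy]
    exact A.zero_mem
  set n := Nat.find hex with hn
  obtain ⟨hn1, hnA⟩ := Nat.find_spec hex
  have hnle : n ≤ N + 1 := Nat.find_min' hex ⟨by omega, fun y hy => by
    unfold I at hy
    rw [hN, Ideal.span_singleton_zero, Ideal.mem_bot] at hy
    rw [hy]
    exact A.zero_mem⟩
  refine ⟨n, hn1, hnle, ?_⟩
  -- elements of `A` of positive order have order at least `n`
  have hQ : ∀ m : ℕ, 1 ≤ m → m ≤ n → ∀ g ∈ A, g ∈ I x 1 → g ∈ I x m := by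
    intro m hm1
    induction m, hm1 using Nat.le_induction with
    | base => intro _ g _ hg; exact hg
    | succ m hm1 ih =>
      intro hmn g hgA hg1
      have hgm := ih (by omega) g hgA hg1
      obtain ⟨c, g', hg', rfl⟩ := decomp hdec m g hgm
      by_cases hc : c = 0
      · rw [hc, zero_smul, zero_add]
        exact hg'
      · exfalso
        have hlt : m < n := by omega
        apply Nat.find_min hex hlt
        refine ⟨hm1, ?_⟩
        have hm_le : m ≤ N + 1 := by omega
        apply ideal_le_of_leading hdec σ hσ A hA N hN (N + 1 - m) m (by omega) hm1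
          (c • x ^ m + g') c hgA hc
        rw [add_sub_cancel_left]
        exact hg'
  apply le_antisymm
  · intro g hg
    rw [Subalgebra.mem_toSubmodule] at hg
    obtain ⟨c, r', rfl⟩ := hdec g
    have h1 : x * r' ∈ A := by
      have : x * r' = (algebraMap k R c + x * r') - algebraMap k R c := by ring
      rw [this]
      exact A.sub_mem hg (A.algebraMap_mem c)
    have h2 : x * r' ∈ I x 1 := by
      have := pow_mul_mem_I x 1 r'
      rwa [pow_one] at this
    have h3 := hQ n hn1 le_rfl _ h1 h2
    apply Submodule.add_mem_sup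
    · rw [Algebra.algebraMap_eq_smul_one]
      exact Submodule.smul_mem _ _ (Submodule.subset_span rfl)
    · exact h3
  · apply sup_le
    · rw [Submodule.span_le]
      rintro _ rfl
      exact A.one_mem
    · intro y hy
      exact hnA y hy

end Groth.Agent.Lib27.TruncSub
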