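import Groth.Agent.Lib27.Misc.TruncSub2

/-!
# Subalgebras of `k[u]/(u^(N+1))` stable under the unipotent substitutions
-/

set_option autoImplicit false

universe u

namespace Groth.Agent.Lib27.TruncSub

open Polynomial

variable (k : Type u) [Field k] [CharZero k] (N : ℕ)

lemma root_pow :
    (AdjoinRoot.root ((X : Polynomial k) ^ (N + 1))) ^ (N + 1) = 0 := by
  rw [← AdjoinRoot.mk_X, ← map_pow, AdjoinRoot.mk_self]

lemma hdecomp (r : AdjoinRoot ((X : Polynomial k) ^ (N + 1))) :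
    ∃ (c : k) (r' : AdjoinRoot ((X : Polynomial k) ^ (N + 1))),
      r = algebraMap k _ c + AdjoinRoot.root ((X : Polynomial k) ^ (N + 1)) * r' := by
  obtain ⟨p, rfl⟩ := AdjoinRoot.mk_surjective r
  refine ⟨p.coeff 0, AdjoinRoot.mk _ p.divX, ?_⟩
  conv_lhs => rw [← Polynomial.divX_mul_X_add p]
  rw [map_add, map_mul, AdjoinRoot.mk_X, AdjoinRoot.mk_C, AdjoinRoot.algebraMap_eq]
  ring

lemma exists_sigma :
    ∃ σ : AdjoinRoot ((X : Polynomial k) ^ (N + 1)) →ₐ[k] AdjoinRoot ((X : Polynomial k) ^ (N + 1)),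
      σ (AdjoinRoot.root ((X : Polynomial k) ^ (N + 1))) *
        (1 + AdjoinRoot.root ((X : Polynomial k) ^ (N + 1))) =
        AdjoinRoot.root ((X : Polynomial k) ^ (N + 1)) := by
  set x := AdjoinRoot.root ((X : Polynomial k) ^ (N + 1)) with hx
  set w := ∑ i ∈ Finset.range (N + 1), (-x) ^ i with hw
  have hw1 : w * (1 + x) = 1 := by
    have h := geom_sum_mul_neg (-x) (N + 1)
    rw [neg_pow, root_pow, mul_zero, sub_zero, sub_neg_eq_add] at h
    exact h
  have h0 : ((X : Polynomial k) ^ (N + 1)).eval₂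
      ((Algebra.ofId k (AdjoinRoot ((X : Polynomial k) ^ (N + 1))) :
        k →ₐ[k] AdjoinRoot ((X : Polynomial k) ^ (N + 1))) : k →+* _) (x * w) = 0 := by
    rw [Polynomial.eval₂_pow, Polynomial.eval₂_X, mul_pow, root_pow, zero_mul]
  refine ⟨AdjoinRoot.liftAlgHom _ (Algebra.ofId k _) (x * w) h0, ?_⟩
  rw [AdjoinRoot.liftAlgHom_root, mul_assoc, hw1, mul_one]

theorem main (A : Subalgebra k (AdjoinRoot ((X : Polynomial k) ^ (N + 1))))
    (hA : ∀ (a : k) (σ : AdjoinRoot ((X : Polynomial k) ^ (N + 1)) →ₐ[k]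
        AdjoinRoot ((X : Polynomial k) ^ (N + 1))),
      σ (AdjoinRoot.root ((X : Polynomial k) ^ (N + 1))) *
          (1 + algebraMap k (AdjoinRoot ((X : Polynomial k) ^ (N + 1))) a *
            AdjoinRoot.root ((X : Polynomial k) ^ (N + 1))) =
        AdjoinRoot.root ((X : Polynomial k) ^ (N + 1)) → A.map σ ≤ A) :
    ∃ n : ℕ, 1 ≤ n ∧ n ≤ N + 1 ∧
      Subalgebra.toSubmodule A =
        Submodule.span k {1} ⊔
          (Ideal.span {AdjoinRoot.root ((X : Polynomial k) ^ (N + 1)) ^ n}).restrictScalars k := by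
  obtain ⟨σ, hσ⟩ := exists_sigma k N
  have h1 := hA 1 σ (by rw [map_one, one_mul]; exact hσ)
  exact classify (hdecomp k N) σ hσ A h1 N (root_pow k N)

end Groth.Agent.Lib27.TruncSub
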